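import Groth.Agent.Lib.FlatStrat53.Poly

/-!
# Invariance of the fibre Euler characteristics under change of base
-/

set_option autoImplicit false
set_option linter.style.haveILetI false
set_option linter.style.show false

universe u

open CategoryTheory CategoryTheory.Limits AlgebraicGeometry TopologicalSpace

namespace Groth.Agent.Lib.HilbFib53

open Groth.Agent.Lib Groth.Agent.Lib.TensorMod.Basic FlatStrat53

variable {r : ℕ} {S S₀ : Scheme.{u}}

theorem chiFib_pullback (b : S ⟶ S₀) (G : (CohB1.ProjSpaceOver r S₀).Modules) (hG : Coh.IsCoh G) (s : S)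
    (m : ℤ) : chiFib (Fp G b) s m = chiFib G (b s) m := by
  rw [chiFib_eq (Fp G b) (Cyc.FP.Stalk.isCoh_pullback _ hG) s m, chiFib_eq G hG (b s) m]
  let K : Type u := S.residueField s
  let k : Type u := S₀.residueField (b s)
  letI : Algebra k K := (b.residueFieldMap s).hom.toAlgebra
  let T : Scheme.{u} := Spec (CommRingCat.of K)
  let T₀ : Scheme.{u} := Spec (CommRingCat.of k)
  let ρ : T ⟶ T₀ := Spec.map (CommRingCat.ofHom (algebraMap k K))
  have hρ : ρ ≫ S₀.fromSpecResidueField (b s) = S.fromSpecResidueField s ≫ b :=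
    b.SpecMap_residueFieldMap_fromSpecResidueField s
  letI : (CohB1.ProjSpaceOver r T).Over (Spec (CommRingCat.of K)) := ⟨CohB1.ProjSpaceOver.toBase r T⟩
  letI : (CohB1.ProjSpaceOver r T₀).Over (Spec (CommRingCat.of k)) := ⟨CohB1.ProjSpaceOver.toBase r T₀⟩
  haveI : CompactSpace (CohB1.ProjSpaceOver r T₀) :=
    QuasiCompact.compactSpace_of_compactSpace (CohB1.ProjSpaceOver.toBase r T₀)
  haveI : QuasiSeparatedSpace (CohB1.ProjSpaceOver r T₀) :=
    quasiSeparatedSpace_of_quasiSeparated (CohB1.ProjSpaceOver.toBase r T₀)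
  let g := FGA.projMap r ρ
  let N := CohB1.tensorMod (Fp G (S₀.fromSpecResidueField (b s))) (Twist.twistOver r T₀ m)
  have hN : Coh.IsCoh N := ProjCoh.Coherent.isCoh_tensorMod (Cyc.FP.Stalk.isCoh_pullback _ hG)
    (Cyc.FP.Stalk.isCoh_pullback _ (ProjCoh.Coherent.isCoh_tw m))
  haveI := hN.1
  let e : (Scheme.Modules.pullback g).obj N ≅
      CohB1.tensorMod (Fp (Fp G b) (S.fromSpecResidueField s)) (Twist.twistOver r T m) :=
    TensorMod.Pullback.pullbackTensorIso g _ _ ≪≫ tensorIso
      ((Scheme.Modules.pullbackComp g (FGA.projMap r (S₀.fromSpecResidueField (b s)))).app G ≪≫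
        (Scheme.Modules.pullbackCongr ((FlatStrat53.projMap_comp ρ _).symm.trans
          ((congrArg (FGA.projMap r) hρ).trans (FlatStrat53.projMap_comp (S.fromSpecResidueField s) b)))).app G ≪≫
        ((Scheme.Modules.pullbackComp (FGA.projMap r (S.fromSpecResidueField s)) (FGA.projMap r b)).app G).symm)
      ((Scheme.Modules.pullbackComp g (toP₀ r T₀)).app _ ≪≫
        (Scheme.Modules.pullbackCongr (projMap_toP₀ ρ)).app _)
  have h : IsPullback g (CohB1.ProjSpaceOver r T ↘ Spec (CommRingCat.of K))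
      (CohB1.ProjSpaceOver r T₀ ↘ Spec (CommRingCat.of k))
      (Spec.map (CommRingCat.ofHom (algebraMap k K))) := isPullback_projMap (n := r) ρ
  show FGA.eulerCharLE K (CohB1.ProjSpaceOver r T) _ r = FGA.eulerCharLE k (CohB1.ProjSpaceOver r T₀) N r
  refine (Snapper.Chi.eulerCharLE_of_iso e r).symm.trans ?_
  unfold FGA.eulerCharLE
  exact Finset.sum_congr rfl fun i _ => by rw [Curves.BaseChange.finrank_HH h N i]

/-- Isomorphic modules have the same fibre Euler characteristics. -/
theorem chiFib_congr {G G' : (CohB1.ProjSpaceOver r S).Modules} (e : G ≅ G') (hG : Coh.IsCoh G) (s : S)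
    (m : ℤ) : chiFib G s m = chiFib G' s m := by
  rw [chiFib_eq G hG s m, chiFib_eq G' (CohBasics.Closure.isCoh_of_iso e hG) s m]
  letI : (CohB1.ProjSpaceOver r (Spec (S.residueField s))).Over
      (Spec (CommRingCat.of (S.residueField s))) :=
    ⟨CohB1.ProjSpaceOver.toBase r (Spec (S.residueField s))⟩
  exact Snapper.Chi.eulerCharLE_of_iso
    (tensorIso ((Scheme.Modules.pullback (FGA.projMap r (S.fromSpecResidueField s))).mapIso e) (Iso.refl _)) r

/-- Flatness along a composite is flatness of the pullback. -/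
theorem flatAlong_pullback_iff (b : S ⟶ S₀) (G : (CohB1.ProjSpaceOver r S₀).Modules) {T : Scheme.{u}}
    (g : T ⟶ S) : FlatAlong (Fp G b) g ↔ FlatAlong G (g ≫ b) := by
  have e := (Scheme.Modules.pullbackComp (FGA.projMap r g) (FGA.projMap r b)).app G ≪≫
    (Scheme.Modules.pullbackCongr (FlatStrat53.projMap_comp (n := r) g b).symm).app G
  exact ⟨fun h x => Flat55.FlatOverAt.of_iso _ e x (h x), fun h x => Flat55.FlatOverAt.of_iso _ e.symm x (h x)⟩

theorem flatAlong_congr {G G' : (CohB1.ProjSpaceOver r S).Modules} (e : G ≅ G') {T : Scheme.{u}}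
    (g : T ⟶ S) : FlatAlong G g ↔ FlatAlong G' g := by
  have e' := (Scheme.Modules.pullback (FGA.projMap r g)).mapIso e
  exact ⟨fun h x => Flat55.FlatOverAt.of_iso _ e' x (h x), fun h x => Flat55.FlatOverAt.of_iso _ e'.symm x (h x)⟩

end Groth.Agent.Lib.HilbFib53
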