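import Groth.Agent.S4788
import Groth.Agent.Lib.Lim.Approx.Main
import Groth.Agent.Lib.Lim.Basic
import Groth.Agent.Lib.FlatStrat53.Flat
import Groth.Agent.Lib.Cyc.FP.Stalk
import Mathlib.AlgebraicGeometry.Noetherian

/-!
# Finitely presented modules on `P^r_S` come from Noetherian bases
-/

set_option autoImplicit false
set_option backward.isDefEq.respectTransparency false
set_option linter.style.haveILetI false

universe u

open CategoryTheory CategoryTheory.Limits AlgebraicGeometry Opposite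

namespace Groth.Agent.Lib.HilbFib53

open Groth.Agent.Lib

theorem exists_noetherian_model {r : ℕ} {S : Scheme.{u}} [IsAffine S]
    (G : (CohB1.ProjSpaceOver r S).Modules) [G.IsQuasicoherent] (hG : CohB1.IsFP G) :
    ∃ (S₀ : Scheme.{u}) (b : S ⟶ S₀) (G₀ : (CohB1.ProjSpaceOver r S₀).Modules),
      IsNoetherian S₀ ∧ Coh.IsCoh G₀ ∧
        Nonempty ((Scheme.Modules.pullback (FGA.projMap r b)).obj G₀ ≅ G) := by
  obtain ⟨A⟩ := Lim.Approx.Main.exists_approx (S := S)
  haveI : ∀ {i j : A.Iᵒᵖ} (a : i ⟶ j), IsAffineHom (A.D.map a) := fun a => A.affine a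
  haveI : IsAffine A.cone.pt := ‹IsAffine S›
  obtain ⟨k, hk⟩ := Scheme.exists_isAffine_of_isLimit A.D A.cone A.isLimit
  haveI := hk
  let a := CohB1.ProjSpaceOver.toBase r (A.D.obj k)
  haveI : IsProper a := ProjSpace.BaseChange.isProper_toBase r (A.D.obj k)
  haveI : CompactSpace (CohB1.ProjSpaceOver r (A.D.obj k)) := QuasiCompact.compactSpace_of_compactSpace a
  haveI : QuasiSeparatedSpace (CohB1.ProjSpaceOver r (A.D.obj k)) := quasiSeparatedSpace_of_quasiSeparated a
  have hP : IsPullback (FGA.projMap r (A.π.app k)) (CohB1.ProjSpaceOver.toBase r S) a (A.cone.π.app k) :=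
    FlatStrat53.isPullback_projMap (n := r) (A.π.app k)
  let BD := Lim.Basic.bcDiagram A.D a
  haveI : ∀ (i j : Over k) (φ : i ⟶ j), IsAffineHom (BD.map φ) := fun i j φ =>
    Lim.Basic.isAffineHom_bcDiagram_map A.D a φ
  let j₀ : Over k := Over.mk (𝟙 k)
  haveI : CompactSpace (BD.obj j₀) := Lim.Basic.compactSpace_bcDiagram A.D a j₀
  haveI : QuasiSeparatedSpace (BD.obj j₀) := Lim.Basic.quasiSeparatedSpace_bcDiagram A.D a j₀
  haveI : Coh.IsQCoh G := ‹G.IsQuasicoherent›
  obtain ⟨j, -, Gj, hq, hfp, ⟨e⟩⟩ := Groth.Agent.S4788.result BD (Lim.Basic.bcCone hP.w)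
    (Lim.Basic.isLimitBcCone A.isLimit hP) j₀ G hG
  haveI : IsAffine (A.D.obj j.left) := isAffine_of_isAffineHom (A.D.map j.hom)
  haveI : IsNoetherian (A.D.obj j.left) := { }
  let b : S ⟶ A.D.obj j.left := A.π.app j.left
  have hq' := FlatStrat53.isPullback_projMap (n := r) (A.D.map j.hom)
  let ψ := hq'.isoPullback
  have hπ : FGA.projMap r b ≫ ψ.hom = (Lim.Basic.bcCone hP.w).π.app j := by
    apply pullback.hom_ext
    · refine Eq.trans ?_ (Lim.Basic.bcCone_π_fst hP.w j).symm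
      rw [Category.assoc, hq'.isoPullback_hom_fst, ← FlatStrat53.projMap_comp]
      exact congrArg (FGA.projMap r) (A.cone.w j.hom)
    · refine Eq.trans ?_ (Lim.Basic.bcCone_π_snd hP.w j).symm
      rw [Category.assoc, hq'.isoPullback_hom_snd]
      exact pullback.lift_snd _ _ _
  haveI := hfp
  have hGj : Coh.IsCoh Gj := ⟨hq, inferInstance⟩
  refine ⟨A.D.obj j.left, b, (Scheme.Modules.pullback ψ.hom).obj Gj, inferInstance,
    Cyc.FP.Stalk.isCoh_pullback _ hGj, ⟨?_⟩⟩
  exact (Scheme.Modules.pullbackComp (FGA.projMap r b) ψ.hom).app Gj ≪≫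
    (Scheme.Modules.pullbackCongr hπ).app Gj ≪≫ e

end Groth.Agent.Lib.HilbFib53
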