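import Groth.Agent.Lib.HilbFib53.Push
import Groth.Agent.Lib.HilbFib53.Descend
import Groth.Agent.Lib.HilbFib53.BaseChange
import Groth.Agent.Lib.ProjMor.Conv
import Groth.Agent.Lib.Exchange.FlatTwist
import Groth.Agent.Lib.Flat55.FibreTransfer
import Groth.Agent.Lib.DescAlg.FPPush
import Groth.Agent.Lib.Modules.TensorGen
import Groth.Agent.Lib.CohDelta.IndExt.QCoh

/-!
# Over an affine base everything comes from projective space over a Noetherian base
-/

set_option autoImplicit false
set_option linter.style.haveILetI false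
set_option linter.style.show false

universe u

open CategoryTheory CategoryTheory.Limits AlgebraicGeometry TopologicalSpace

namespace Groth.Agent.Lib.HilbFib53

open Groth.Agent.Lib Groth.Agent.Lib.TensorMod.Basic FlatStrat53

/-- A finitely presented module twisted by an invertible one is finitely presented. -/
theorem isFP_twist {X : Scheme.{u}} (F : X.Modules) [F.IsQuasicoherent] (hF : CohB1.IsFP F) {L : X.Modules}
    (hL : PicF.IsInvertible L) : CohB1.IsFP (CohB1.tensorMod F L) := by
  haveI : L.IsQuasicoherent := (Ample.GG.isCoh_of_isInvertible hL).1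
  haveI := TensorMod.TensorQCoh.isQCoh_tensorMod F L
  refine DescAlg.FPPush.isFP_of_sections _ fun x => ?_
  obtain ⟨U, e, hx, he⟩ := TensorMod.Gen.isInvertible_iff.1 hL x
  obtain ⟨V, hV, hxV, hle⟩ := exists_isAffineOpen_mem_and_subset hx
  haveI := DescAlg.FPPush.finitePresentation_sections hV F hF
  exact ⟨V, hV, hxV, Module.FinitePresentation.of_equiv
    (LinearEquiv.ofBijective _ (Modules.TensorGen.tg_bijective (M := F) (he.res hle)))⟩

/-- Twisting does not change flatness over the base, after any base change. -/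
theorem flat_twist_iff {X S T : Scheme.{u}} (f : X ⟶ S) (g : T ⟶ S) (F : X.Modules) {L : X.Modules}
    (hL : PicF.IsInvertible L) :
    FlatMod.IsFlatOver (pullback.snd f g) ((Scheme.Modules.pullback (pullback.fst f g)).obj (CohB1.tensorMod F L)) ↔
      FlatMod.IsFlatOver (pullback.snd f g) ((Scheme.Modules.pullback (pullback.fst f g)).obj F) := by
  let P := Scheme.Modules.pullback (pullback.fst f g)
  have hL' : PicF.IsInvertible (P.obj L) := PicLoc.isInvertible_pullback _ hL
  obtain ⟨D, hD, ⟨c⟩⟩ := TensorMod.Invertible.exists_inverse hL'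
  let e : P.obj (CohB1.tensorMod F L) ≅ CohB1.tensorMod (P.obj F) (P.obj L) :=
    TensorMod.Pullback.pullbackTensorIso _ F L
  refine ⟨fun h => ?_, fun h x => ?_⟩
  · intro x
    refine Flat55.FlatOverAt.of_iso _
      (tensorIso e (Iso.refl D) ≪≫ TensorMod.Basic.assoc _ _ _ ≪≫ tensorIso (Iso.refl _) c ≪≫ rightUnit _) x ?_
    exact Exchange.FlatTwist.isFlatOver_twist _ hD h x
  · exact Flat55.FlatOverAt.of_iso _ e.symm x (Exchange.FlatTwist.isFlatOver_twist _ hL' h x)

/-- Over an affine base: a period `N` so that each residue class of twists is described by a coherent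
module on projective space over a Noetherian scheme. -/
theorem exists_local {X S : Scheme.{u}} [IsAffine S] (f : X ⟶ S) [IsProper f] [LocallyOfFinitePresentation f]
    (L : X.Modules) (hL : RelAmple.IsRelAmple f L) (F : X.Modules) (hF : CohB1.IsFP F) :
    ∃ N : ℕ, 0 < N ∧ ∀ j : ℕ, ∃ (r : ℕ) (S₀ : Scheme.{u}) (b : S ⟶ S₀)
      (G₀ : (CohB1.ProjSpaceOver r S₀).Modules), IsNoetherian S₀ ∧ Coh.IsCoh G₀ ∧
      (∀ (s : S) (q : ℕ), @Curv2.euler (S.residueField s) _ (f.fiber s) ⟨f.fiberToSpecResidueField s⟩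
        ((Scheme.Modules.pullback (f.fiberι s)).obj (CohB1.tensorMod F (CohB1.tensorPow L (j + N * q)))) =
          chiFib G₀ (b s) (q : ℤ)) ∧
      ∀ (T : Scheme.{u}) (g : T ⟶ S),
        FlatMod.IsFlatOver (pullback.snd f g) ((Scheme.Modules.pullback (pullback.fst f g)).obj F) ↔
          FlatAlong G₀ (g ≫ b) := by
  haveI : F.IsQuasicoherent := by
    obtain ⟨σ, -⟩ := hF
    exact SheafOfModules.IsQuasicoherent.mk (C := X.Opens) (R := X.ringCatSheaf) (M := F) ⟨σ⟩
  have hA : CohB1.IsAmple L := (Ample.RelAmple.isRelAmple_iff_isAmple f).1 hL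
  have hLi : PicF.IsInvertible L := (Ample.Pow.isAmple_iff.1 hA).1
  obtain ⟨n₀, hn⟩ := ProjMor.Conv.eventually_veryAmple_pow f hA
  obtain ⟨r, i, hi, hc, ⟨eL⟩⟩ := hn (n₀ + 1) (by omega)
  haveI := ProjSpace.BaseChange.isProper_toBase r S
  haveI : IsImmersion i := hi
  haveI hfp : IsProper (i ≫ CohB1.ProjSpaceOver.toBase r S) := hc.symm ▸ ‹IsProper f›
  haveI : IsProper i := IsProper.of_comp i (CohB1.ProjSpaceOver.toBase r S)
  haveI : IsClosedImmersion i := IsClosedImmersion.of_isPreimmersion i i.isClosedMap.isClosed_range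
  haveI : LocallyOfFinitePresentation i := Flat55.FibreTransfer.locallyOfFinitePresentation_of_comp
    (g := CohB1.ProjSpaceOver.toBase r S) (hc.symm ▸ ‹LocallyOfFinitePresentation f›) inferInstance
  refine ⟨n₀ + 1, by omega, fun j => ?_⟩
  let M := CohB1.tensorMod F (CohB1.tensorPow L j)
  have hpow : PicF.IsInvertible (CohB1.tensorPow L j) := TensorMod.Invertible.isInvertible_tensorPow hLi j
  haveI : (CohB1.tensorPow L j).IsQuasicoherent := (Ample.GG.isCoh_of_isInvertible hpow).1
  haveI hM : M.IsQuasicoherent := TensorMod.TensorQCoh.isQCoh_tensorMod F (CohB1.tensorPow L j)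
  have hG : CohB1.IsFP ((Coh.push i).obj M) :=
    (DescAlg.FPPush.isFP_pushforward_iff i M).1 (isFP_twist F hF hpow)
  haveI : ((Coh.push i).obj M).IsQuasicoherent := QCoh.Pushforward.isQCoh_pushforward i
  have hGc : Coh.IsCoh ((Coh.push i).obj M) := ⟨inferInstance, CohDelta.IndExt.QCoh.isFT_of_isFP hG⟩
  obtain ⟨S₀, b, G₀, hN, hG₀, ⟨e⟩⟩ := exists_noetherian_model ((Coh.push i).obj M) hG
  refine ⟨r, S₀, b, G₀, hN, hG₀, fun s q => ?_, fun T g => ?_⟩
  · rw [euler_eq_chiFib i hc eL.symm F j q hGc hM s, ← chiFib_congr e (Cyc.FP.Stalk.isCoh_pullback _ hG₀),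
      chiFib_pullback b G₀ hG₀]
  · rw [← flatAlong_pullback_iff, flatAlong_congr e, flatAlong_push_iff i hc g M, flat_twist_iff f g F hpow]

end Groth.Agent.Lib.HilbFib53
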