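import Groth.Agent.Lib.FlatStrat53.Poly
import Groth.Agent.Lib.ZarCoh.AffineBC
import Groth.Agent.Lib.DerivedOX.ProjClosed
import Groth.Agent.Lib.SurfInt.Push
import Groth.Agent.Lib.Cyc.SheafLen
import Groth.Agent.Lib.Ample.Pow
import Groth.Prelude.Def_Curv2

/-!
# Push forward to projective space over a base: flatness and fibre Euler characteristics
-/

set_option autoImplicit false
set_option linter.style.haveILetI false
set_option linter.style.show false

universe u

open CategoryTheory CategoryTheory.Limits AlgebraicGeometry TopologicalSpace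

namespace Groth.Agent.Lib.HilbFib53

open Groth.Agent.Lib Groth.Agent.Lib.TensorMod.Basic

/-- Flatness over the base does not see a closed immersion. -/
theorem isFlatOver_push_iff {X P S : Scheme.{u}} (k : X ⟶ P) [IsClosedImmersion k] (p : P ⟶ S)
    (N : X.Modules) :
    FlatMod.IsFlatOver p ((Coh.push k).obj N) ↔ FlatMod.IsFlatOver (k ≫ p) N := by
  have key : ∀ x : X, FlatMod.IsFlatOverAt p ((Coh.push k).obj N) (k x) ↔
      FlatMod.IsFlatOverAt (k ≫ p) N x := by
    intro x
    letI := FlatMod.moduleStalkOver p ((Coh.push k).obj N) (k x)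
    letI : Module (S.presheaf.stalk (p (k x))) (N.presheaf.stalk x) := FlatMod.moduleStalkOver (k ≫ p) N x
    let e : ((Coh.push k).obj N).presheaf.stalk (k x) ≃ₗ[S.presheaf.stalk (p (k x))] N.presheaf.stalk x :=
      { AddEquiv.ofBijective _ (Cyc.SheafLen.pushStalk_bijective k N x) with
        map_smul' := fun r v => by
          show Cyc.SheafLen.pushStalk k N x (p.stalkMap (k x) r • v) = (k ≫ p).stalkMap x r • _
          rw [Cyc.SheafLen.pushStalk_smul, Scheme.Hom.stalkMap_comp]
          rfl }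
    show Module.Flat (S.presheaf.stalk (p (k x))) (((Coh.push k).obj N).presheaf.stalk (k x)) ↔
      Module.Flat (S.presheaf.stalk (p (k x))) (N.presheaf.stalk x)
    exact ⟨fun h => Module.Flat.of_linearEquiv e.symm, fun h => Module.Flat.of_linearEquiv e⟩
  refine ⟨fun h x => (key x).1 (h _), fun h y => ?_⟩
  by_cases hy : y ∈ Set.range k
  · obtain ⟨x, rfl⟩ := hy
    exact (key x).2 (h x)
  · haveI := PushClosed.Unit.subsingleton_stalk_push k N hy
    letI := FlatMod.moduleStalkOver p ((Coh.push k).obj N) y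
    exact Module.Flat.of_free

variable {X S : Scheme.{u}} {f : X ⟶ S} {r : ℕ} (i : X ⟶ CohB1.ProjSpaceOver r S) [IsClosedImmersion i]
  (hi : i ≫ CohB1.ProjSpaceOver.toBase r S = f)

include hi

/-- The closed immersion after base change, with its cartesian squares. -/
theorem exists_baseChange {T : Scheme.{u}} (g : T ⟶ S) :
    ∃ iT : pullback f g ⟶ CohB1.ProjSpaceOver r T, IsClosedImmersion iT ∧
      iT ≫ CohB1.ProjSpaceOver.toBase r T = pullback.snd f g ∧
      IsPullback (pullback.fst f g) iT i (FGA.projMap r g) := by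
  have hq := FlatStrat53.isPullback_projMap (n := r) g
  let iT := hq.lift (pullback.fst f g ≫ i) (pullback.snd f g)
    (by rw [Category.assoc, hi, pullback.condition])
  have h1 : iT ≫ CohB1.ProjSpaceOver.toBase r T = pullback.snd f g := hq.lift_snd _ _ _
  have h2 : iT ≫ FGA.projMap r g = pullback.fst f g ≫ i := hq.lift_fst _ _ _
  have sq : IsPullback (pullback.fst f g) iT i (FGA.projMap r g) := by
    refine IsPullback.of_bot ?_ h2.symm hq
    rw [h1, hi]
    exact IsPullback.of_hasPullback f g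
  exact ⟨iT, MorphismProperty.of_isPullback sq inferInstance, h1, sq⟩

/-- Flatness along a morphism of the push forward is flatness of the pullback. -/
theorem flatAlong_push_iff {T : Scheme.{u}} (g : T ⟶ S) (M : X.Modules) [M.IsQuasicoherent] :
    FlatStrat53.FlatAlong ((Coh.push i).obj M) g ↔
      FlatMod.IsFlatOver (pullback.snd f g) ((Scheme.Modules.pullback (pullback.fst f g)).obj M) := by
  obtain ⟨iT, hiT, hsnd, sq⟩ := exists_baseChange i hi g
  haveI := ZarCoh.AffineBC.isIso_bc sq M
  have e := asIso (ZarCoh.AffineBC.bc sq M)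
  have h0 : FlatStrat53.FlatAlong ((Coh.push i).obj M) g ↔
      FlatMod.IsFlatOver (CohB1.ProjSpaceOver.toBase r T)
        ((Coh.push iT).obj ((Scheme.Modules.pullback (pullback.fst f g)).obj M)) :=
    ⟨fun h x => Flat55.FlatOverAt.of_iso _ e x (h x), fun h x => Flat55.FlatOverAt.of_iso _ e.symm x (h x)⟩
  rw [h0, isFlatOver_push_iff, hsnd]

set_option maxHeartbeats 800000 in
/-- The fibre Euler characteristics of twists of a push forward. -/
theorem euler_eq_chiFib {L : X.Modules} {N : ℕ}
    (eL : (Scheme.Modules.pullback i).obj (Twist.twistOver r S 1) ≅ CohB1.tensorPow L N)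
    (F : X.Modules) (j q : ℕ) (hG : Coh.IsCoh ((Coh.push i).obj (CohB1.tensorMod F (CohB1.tensorPow L j))))
    (hM : Coh.IsQCoh (CohB1.tensorMod F (CohB1.tensorPow L j))) (s : S) :
    @Curv2.euler (S.residueField s) _ (f.fiber s) ⟨f.fiberToSpecResidueField s⟩
        ((Scheme.Modules.pullback (f.fiberι s)).obj (CohB1.tensorMod F (CohB1.tensorPow L (j + N * q)))) =
      FlatStrat53.chiFib ((Coh.push i).obj (CohB1.tensorMod F (CohB1.tensorPow L j))) s (q : ℤ) := by
  haveI : (CohB1.tensorMod F (CohB1.tensorPow L j)).IsQuasicoherent := hM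
  rw [FlatStrat53.chiFib_eq _ hG s (q : ℤ)]
  let φ := S.fromSpecResidueField s
  let K : Type u := S.residueField s
  let T : Scheme.{u} := Spec (CommRingCat.of K)
  let P' := CohB1.ProjSpaceOver r T
  letI : P'.Over (Spec (CommRingCat.of K)) := ⟨CohB1.ProjSpaceOver.toBase r T⟩
  letI : (pullback f φ).Over (Spec (CommRingCat.of K)) := ⟨pullback.snd f φ⟩
  obtain ⟨iT, hiT, hsnd, sq⟩ := exists_baseChange i hi φ
  let a := pullback.fst f φ
  let M := CohB1.tensorMod F (CohB1.tensorPow L j)
  haveI := ZarCoh.AffineBC.isIso_bc sq M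
  have hbc := asIso (ZarCoh.AffineBC.bc sq M)
  haveI : ((Scheme.Modules.pullback a).obj M).IsQuasicoherent := QCoh.Pullback.isQCoh_pullback a M
  let E := Twist.twistOver r T (q : ℤ)
  haveI := DerivedOX.ProjClosed.isIso_theta iT E ((Scheme.Modules.pullback a).obj M)
  -- `E` restricted to the fibre is a power of `L`
  obtain ⟨j₀⟩ := ProjCoh.Coherent.nonempty_tensorPow_iso (n := r) (R := ULift.{u} ℤ) q
  let e1 : E ≅ (Scheme.Modules.pullback (FGA.projMap r φ)).obj (Twist.twistOver r S (q : ℤ)) :=
    ((Scheme.Modules.pullbackComp (FGA.projMap r φ) (FlatStrat53.toP₀ r S)).app _ ≪≫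
      (Scheme.Modules.pullbackCongr (FlatStrat53.projMap_toP₀ φ)).app _).symm
  let e2 : Twist.twistOver r S (q : ℤ) ≅ CohB1.tensorPow (Twist.twistOver r S 1) q :=
    (Scheme.Modules.pullback (FlatStrat53.toP₀ r S)).mapIso j₀ ≪≫ Ample.Pow.pullbackPow _ _ q
  let e3 : (Scheme.Modules.pullback i).obj (Twist.twistOver r S (q : ℤ)) ≅ CohB1.tensorPow L (N * q) :=
    (Scheme.Modules.pullback i).mapIso e2 ≪≫ Ample.Pow.pullbackPow i _ q ≪≫ Ample.Pow.powIso eL q ≪≫
      Ample.Pow.powMul L N q
  let e4 : (Scheme.Modules.pullback iT).obj E ≅ (Scheme.Modules.pullback a).obj (CohB1.tensorPow L (N * q)) :=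
    (Scheme.Modules.pullback iT).mapIso e1 ≪≫ (Scheme.Modules.pullbackComp iT (FGA.projMap r φ)).app _ ≪≫
      (Scheme.Modules.pullbackCongr sq.w.symm).app _ ≪≫
      ((Scheme.Modules.pullbackComp a i).app _).symm ≪≫ (Scheme.Modules.pullback a).mapIso e3
  let e5 : CohB1.tensorMod ((Scheme.Modules.pullback iT).obj E) ((Scheme.Modules.pullback a).obj M) ≅
      (Scheme.Modules.pullback a).obj (CohB1.tensorMod F (CohB1.tensorPow L (j + N * q))) :=
    tensorIso e4 (Iso.refl _) ≪≫ (TensorMod.Pullback.pullbackTensorIso a _ _).symm ≪≫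
      (Scheme.Modules.pullback a).mapIso (TensorMod.Basic.comm _ _ ≪≫ TensorMod.Basic.assoc _ _ _ ≪≫
        tensorIso (Iso.refl F) (Ample.Pow.powAdd L j (N * q)).symm)
  let e6 : CohB1.tensorMod (FlatStrat53.Fp ((Coh.push i).obj M) φ) E ≅
      (Coh.push iT).obj ((Scheme.Modules.pullback a).obj (CohB1.tensorMod F (CohB1.tensorPow L (j + N * q)))) :=
    tensorIso hbc (Iso.refl E) ≪≫ TensorMod.Basic.comm _ _ ≪≫
      asIso (Modules.ProjFormula.theta iT E ((Scheme.Modules.pullback a).obj M)) ≪≫ (Coh.push iT).mapIso e5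
  have hq' : ((Scheme.Modules.pullback a).obj (CohB1.tensorMod F (CohB1.tensorPow L (j + N * q)))).IsQuasicoherent := by
    haveI : ((Scheme.Modules.pullback iT).obj E).IsQuasicoherent :=
      haveI : (Twist.twistProjSpace r (ULift.{u} ℤ) (q : ℤ)).IsQuasicoherent := (ProjCoh.Coherent.isCoh_tw _).1
      haveI : E.IsQuasicoherent := QCoh.Pullback.isQCoh_pullback _ _
      QCoh.Pullback.isQCoh_pullback iT E
    haveI := TensorMod.TensorQCoh.isQCoh_tensorMod ((Scheme.Modules.pullback iT).obj E)
      ((Scheme.Modules.pullback a).obj M)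
    exact CohBasics.Closure.isQCoh_of_iso e5
  show Curv2.euler K (pullback f φ) ((Scheme.Modules.pullback a).obj _) =
    FGA.eulerCharLE K P' (CohB1.tensorMod (FlatStrat53.Fp ((Coh.push i).obj M) φ) E) r
  let o := ProjSpace.BaseChange.overSpecIso r K
  haveI := UnifReg.Step.isNoetherian_proj r K
  haveI : NoetherianSpace P' := o.hom.homeomorph.isInducing.noetherianSpace
  have hdim : topologicalKrullDim P' ≤ (r : WithBot ℕ∞) := by
    rw [o.hom.homeomorph.isHomeomorph.topologicalKrullDim_eq]
    exact (ProjSpace.Dim.topologicalKrullDim_projSpace_of_field r K).le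
  haveI := hq'
  exact (SurfInt.Push.euler_push (k := K) (X := P') (Z := pullback f φ) iT hsnd _).symm.trans ((Snapper.Chi.euler_eq_eulerCharLE hdim _).trans
    (Snapper.Chi.eulerCharLE_of_iso e6 r).symm)

end Groth.Agent.Lib.HilbFib53
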