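import Groth.Agent.Lib.HilbFib53.Strata

/-!
# The flattening stratum of a Hilbert polynomial
-/

set_option autoImplicit false
set_option linter.style.haveILetI false
set_option linter.style.show false

universe u

open CategoryTheory CategoryTheory.Limits AlgebraicGeometry TopologicalSpace

namespace Groth.Agent.Lib.HilbFib53

open Groth.Agent.Lib

variable {X S : Scheme.{u}} (f : X ⟶ S) (L F : X.Modules) (Φ : Polynomial ℚ)

/-- The points with a given Hilbert polynomial. -/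
def hilbLocus : Set S := {s | ∀ n : ℕ, (hilbFn f L F s n : ℚ) = Φ.eval (n : ℚ)}

variable [IsProper f] [LocallyOfFinitePresentation f] (hL : RelAmple.IsRelAmple f L) (hF : CohB1.IsFP F)

include hL hF in
/-- The flattening stratum over an affine scheme over the base. -/
theorem exists_local_flattening {S' : Scheme.{u}} [IsAffine S'] (b : S' ⟶ S) :
    ∃ (W : Scheme.{u}) (e : W ⟶ S'), IsImmersion e ∧ QuasiCompact e ∧ LocallyOfFinitePresentation e ∧
      Set.range e = b ⁻¹' hilbLocus f L F Φ ∧ FlatPB f F (e ≫ b) ∧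
      ∀ (T : Scheme.{u}) (φ : T ⟶ S'), Set.range φ ⊆ b ⁻¹' hilbLocus f L F Φ → FlatPB f F (φ ≫ b) →
        ∃ g : T ⟶ W, g ≫ e = φ := by
  obtain ⟨N, hN, h⟩ := exists_local_strata f b L F hL hF
  choose P hP _ hstr _ _ using h
  let Q : ℕ → Polynomial ℚ := fun j => Φ.comp (Polynomial.C (j : ℚ) + Polynomial.C (N : ℚ) * Polynomial.X)
  have hQ : ∀ j q : ℕ, (Q j).eval (q : ℚ) = Φ.eval (((j + N * q : ℕ) : ℚ)) := fun j q => by
    simp [Q, Polynomial.eval_comp]
  have key : ∀ k : ℕ, ∃ (W : Scheme.{u}) (e : W ⟶ S'), IsImmersion e ∧ QuasiCompact e ∧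
      LocallyOfFinitePresentation e ∧ Set.range e = {s | ∀ j < k, P j s = Q j} ∧
      (0 < k → FlatPB f F (e ≫ b)) ∧
      ∀ (T : Scheme.{u}) (φ : T ⟶ S'), Set.range φ ⊆ {s | ∀ j < k, P j s = Q j} → FlatPB f F (φ ≫ b) →
        ∃ g : T ⟶ W, g ≫ e = φ := by
    intro k
    induction k with
    | zero =>
      refine ⟨S', 𝟙 S', inferInstance, inferInstance, inferInstance, ?_, fun h => absurd h (lt_irrefl 0),
        fun T φ _ _ => ⟨φ, Category.comp_id φ⟩⟩
      ext s
      exact ⟨fun _ j hj => absurd hj (Nat.not_lt_zero j), fun _ => ⟨s, rfl⟩⟩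
    | succ k ih =>
      obtain ⟨W, e, hi, hq, hp, hr, -, hlift⟩ := ih
      obtain ⟨W', e', hi', hq', hp', hr', hflat', hlift'⟩ := hstr k (Q k)
      refine ⟨pullback e e', pullback.fst e e' ≫ e, inferInstance, (haveI := hq; haveI := hq'; inferInstance),
        (haveI := hp; haveI := hp'; inferInstance), ?_, fun _ => ?_, fun T φ hT hflT => ?_⟩
      · rw [Scheme.Hom.comp_base, TopCat.coe_comp, Set.range_comp, Scheme.Pullback.range_fst,
          Set.image_preimage_eq_inter_range, hr, hr']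
        ext s
        simp only [Set.mem_inter_iff, Set.mem_setOf_eq, Nat.lt_succ_iff_lt_or_eq]
        exact ⟨fun h j hj => hj.elim (h.2 j) fun hj => hj ▸ h.1,
          fun h => ⟨h k (Or.inr rfl), fun j hj => h j (Or.inl hj)⟩⟩
      · rw [pullback.condition, Category.assoc]
        exact hflat'.comp _
      · obtain ⟨g, hg⟩ := hlift T φ (hT.trans fun s hs j hj => hs j (Nat.lt_succ_of_lt hj)) hflT
        obtain ⟨g', hg'⟩ := hlift' T φ (hT.trans fun s hs => hs k (Nat.lt_succ_self k)) hflT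
        exact ⟨pullback.lift g g' (hg.trans hg'.symm), by rw [pullback.lift_fst_assoc, hg]⟩
  have hset : b ⁻¹' hilbLocus f L F Φ = {s | ∀ j < N, P j s = Q j} := by
    ext s
    refine ⟨fun h j _ => FlatStrat53.poly_eq_of_eventually ⟨0, fun q _ => ?_⟩, fun h n => ?_⟩
    · rw [← hP, hQ]
      exact h _
    · have h1 := hP (n % N) s (n / N)
      rw [h _ (Nat.mod_lt _ hN), hQ, Nat.mod_add_div] at h1
      exact h1
  obtain ⟨W, e, hi, hq, hp, hr, hflat, hlift⟩ := key N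
  exact ⟨W, e, hi, hq, hp, hr.trans hset.symm, hflat hN, fun T φ hT => hlift T φ (hset ▸ hT)⟩

include hL hF in
theorem isLocallyClosed_hilbLocus : IsLocallyClosed (hilbLocus f L F Φ) := by
  have hcov : TopologicalSpace.IsOpenCover fun U : S.affineOpens => U.1 := iSup_affineOpens_eq_top S
  refine hcov.isLocallyClosed_iff_coe_preimage.2 fun U => ?_
  haveI : IsAffine U.1.toScheme := U.2
  obtain ⟨W, e, _, _, _, hr, -, -⟩ := exists_local_flattening f L F Φ hL hF U.1.ι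
  show IsLocallyClosed (U.1.ι ⁻¹' hilbLocus f L F Φ)
  exact hr ▸ e.isLocallyClosed_range

set_option backward.isDefEq.respectTransparency.types false in
include hL hF in
/-- The flattening stratum of a Hilbert polynomial. -/
theorem exists_flattening : ∃ (W : Scheme.{u}) (i : W ⟶ S), IsImmersion i ∧ QuasiCompact i ∧
    LocallyOfFinitePresentation i ∧ Set.range i = hilbLocus f L F Φ ∧
    ∀ (T : Scheme.{u}) (g : T ⟶ S),
      (∃ h : T ⟶ W, h ≫ i = g) ↔ (FlatPB f F g ∧ Set.range g ⊆ hilbLocus f L F Φ) := by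
  let Z := hilbLocus f L F Φ
  have hlc : IsLocallyClosed Z := isLocallyClosed_hilbLocus f L F Φ hL hF
  let O : S.Opens := ⟨coborder Z, hlc.isOpen_coborder⟩
  have hZO : Z ⊆ (O : Set S) := subset_coborder
  have hZclosed : IsClosed (O.ι ⁻¹' Z) := isClosed_preimage_val_coborder
  let P : Over O.toScheme → Prop := fun T =>
    FlatPB f F (T.hom ≫ O.ι) ∧ Set.range (T.hom ≫ O.ι) ⊆ Z
  have hmono : ∀ ⦃T T₀ : Over O.toScheme⦄ (_ : T ⟶ T₀), P T₀ → P T := by
    intro T T₀ g hT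
    have e : T.hom ≫ O.ι = g.left ≫ T₀.hom ≫ O.ι := by rw [← Category.assoc, Over.w g]
    simp only [P, e]
    exact ⟨hT.1.comp g.left, by rintro _ ⟨x, rfl⟩; exact hT.2 ⟨g.left x, rfl⟩⟩
  have hloc : ∀ T : Over O.toScheme, (∀ t : T.left, ∃ (T' : Over O.toScheme) (g : T' ⟶ T),
      IsOpenImmersion g.left ∧ t ∈ Set.range g.left ∧ P T') → P T := by
    intro T hcov
    refine ⟨flatPB_of_cover _ fun t => ?_, ?_⟩
    · obtain ⟨T', g, hg, ht, hflat, -⟩ := hcov t
      refine ⟨T'.left, g.left, hg, ht, ?_⟩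
      rwa [← Category.assoc, Over.w g]
    · rintro _ ⟨t, rfl⟩
      obtain ⟨T', g, -, ⟨t', rfl⟩, -, hT'⟩ := hcov t
      refine hT' ⟨t', ?_⟩
      rw [← Over.w g]
      rfl
  have hrep : ∀ x : O.toScheme, ∃ (R : CommRingCat.{u}) (i : Spec R ⟶ O.toScheme) (_ : IsOpenImmersion i),
      x ∈ Set.range i ∧ ∃ J : Ideal R, Flat55.ClosedRep.Rep P i J := by
    intro x
    obtain ⟨V, hV, hxV, hVO⟩ := exists_isAffineOpen_mem_and_subset (U := O) (x := x.1) x.2
    have hr : Set.range hV.fromSpec ⊆ Set.range O.ι := by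
      rw [hV.range_fromSpec, Scheme.Opens.range_ι]
      exact hVO
    let i := IsOpenImmersion.lift O.ι hV.fromSpec hr
    have hfac : i ≫ O.ι = hV.fromSpec := IsOpenImmersion.lift_fac _ _ _
    haveI : IsOpenImmersion (i ≫ O.ι) := by rw [hfac]; infer_instance
    haveI : IsOpenImmersion i := IsOpenImmersion.of_comp i O.ι
    obtain ⟨W, e, hie, _, _, hre, hflat, hlift⟩ := exists_local_flattening f L F Φ hL hF hV.fromSpec
    haveI : IsClosedImmersion e := by
      refine IsClosedImmersion.of_isPreimmersion _ ?_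
      rw [hre, show hV.fromSpec ⁻¹' Z = i ⁻¹' (O.ι ⁻¹' Z) by rw [← hfac]; rfl]
      exact hZclosed.preimage i.continuous
    obtain ⟨J, eJ, he⟩ := IsClosedImmersion.Spec_iff.1 (inferInstance : IsClosedImmersion e)
    refine ⟨_, i, inferInstance, ?_, J, fun A ψ => ?_⟩
    · obtain ⟨y, hy⟩ := hV.range_fromSpec.ge hxV
      refine ⟨y, O.ι.isOpenEmbedding.injective ?_⟩
      rw [← Scheme.Hom.comp_apply, hfac, hy]
      rfl
    · show FlatPB f F ((Spec.map ψ ≫ i) ≫ O.ι) ∧ Set.range ((Spec.map ψ ≫ i) ≫ O.ι) ⊆ Z ↔ _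
      rw [Category.assoc, hfac]
      constructor
      · rintro ⟨hfl, hrg⟩
        obtain ⟨g, hg⟩ := hlift _ (Spec.map ψ) (by rintro _ ⟨y, rfl⟩; exact hrg ⟨y, rfl⟩) hfl
        rw [he, ← Category.assoc] at hg
        have hψ : CommRingCat.ofHom (Ideal.Quotient.mk J) ≫ Spec.preimage (g ≫ eJ.hom) = ψ :=
          Spec.map_injective (by rw [Spec.map_comp, Spec.map_preimage]; exact hg)
        rw [← hψ, CommRingCat.hom_comp, ← Ideal.map_map, CommRingCat.hom_ofHom, Ideal.map_quotient_self,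
          Ideal.map_bot]
      · intro hJ
        have hle : ∀ a ∈ J, ψ.hom a = 0 := fun a ha =>
          Ideal.mem_bot.1 (hJ ▸ Ideal.mem_map_of_mem ψ.hom ha)
        let χ : CommRingCat.of (↥Γ(S, V) ⧸ J) ⟶ A := CommRingCat.ofHom (Ideal.Quotient.lift J ψ.hom hle)
        have hψ : CommRingCat.ofHom (Ideal.Quotient.mk J) ≫ χ = ψ := rfl
        have hg : (Spec.map χ ≫ eJ.inv) ≫ e = Spec.map ψ := by
          rw [he, Category.assoc, Iso.inv_hom_id_assoc, ← Spec.map_comp, hψ]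
        rw [← hg, Category.assoc]
        refine ⟨hflat.comp _, ?_⟩
        rintro _ ⟨y, rfl⟩
        exact hre.le ⟨(Spec.map χ ≫ eJ.inv) y, rfl⟩
  obtain ⟨I, hI, -⟩ := Flat55.ClosedRep.exists_closedSubscheme hmono hloc hrep
  let i : I.subscheme ⟶ S := I.subschemeι ≫ O.ι
  have huniv : ∀ (T : Scheme.{u}) (g : T ⟶ S),
      (∃ h : T ⟶ I.subscheme, h ≫ i = g) ↔ (FlatPB f F g ∧ Set.range g ⊆ Z) := by
    intro T g
    constructor
    · rintro ⟨h, rfl⟩
      have := (hI (Over.mk (h ≫ I.subschemeι))).2 ⟨Over.homMk h⟩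
      simpa [P, i] using this
    · rintro ⟨hflat, hr⟩
      have hr' : Set.range g ⊆ Set.range O.ι := by rw [Scheme.Opens.range_ι]; exact hr.trans hZO
      have hfac : IsOpenImmersion.lift O.ι g hr' ≫ O.ι = g := IsOpenImmersion.lift_fac _ _ _
      obtain ⟨w⟩ := (hI (Over.mk (IsOpenImmersion.lift O.ι g hr'))).1 (by
        show FlatPB f F (IsOpenImmersion.lift O.ι g hr' ≫ O.ι) ∧
          Set.range (IsOpenImmersion.lift O.ι g hr' ≫ O.ι) ⊆ Z
        rw [hfac]; exact ⟨hflat, hr⟩)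
      refine ⟨w.left, ?_⟩
      rw [← Category.assoc, show w.left ≫ I.subschemeι = IsOpenImmersion.lift O.ι g hr' from Over.w w, hfac]
  have hloc' : ∀ V : S.affineOpens, QuasiCompact (i ∣_ V.1) ∧ LocallyOfFinitePresentation (i ∣_ V.1) := by
    intro V
    haveI : IsAffine V.1.toScheme := V.2
    obtain ⟨W, e, hie, hq, hp, hre, hflat, hlift⟩ := exists_local_flattening f L F Φ hL hF V.1.ι
    have sq := isPullback_morphismRestrict i V.1
    obtain ⟨hf1, hr1⟩ := (huniv _ ((i ∣_ V.1) ≫ V.1.ι)).1 ⟨_, sq.w.symm⟩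
    obtain ⟨a, ha⟩ := hlift _ (i ∣_ V.1) (by rintro _ ⟨y, rfl⟩; exact hr1 ⟨y, rfl⟩) hf1
    obtain ⟨h, hh⟩ := (huniv W (e ≫ V.1.ι)).2 ⟨hflat, by rintro _ ⟨y, rfl⟩; exact hre.le ⟨y, rfl⟩⟩
    let c := sq.lift e h hh.symm
    have hc : c ≫ (i ∣_ V.1) = e := sq.lift_fst _ _ _
    haveI : Mono e := inferInstance
    haveI : Mono (i ∣_ V.1) := inferInstance
    haveI : IsIso a := ⟨c, (cancel_mono (i ∣_ V.1)).1 (by rw [Category.assoc, hc, ha, Category.id_comp]),
      (cancel_mono e).1 (by rw [Category.assoc, ha, hc, Category.id_comp])⟩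
    rw [← ha]
    exact ⟨(haveI := hq; inferInstance), (haveI := hp; inferInstance)⟩
  refine ⟨I.subscheme, i, inferInstance,
    IsZariskiLocalAtTarget.of_iSup_eq_top _ (iSup_affineOpens_eq_top S) fun V => (hloc' V).1,
    IsZariskiLocalAtTarget.of_iSup_eq_top _ (iSup_affineOpens_eq_top S) fun V => (hloc' V).2,
    Set.Subset.antisymm ((huniv _ i).1 ⟨𝟙 _, Category.id_comp i⟩).2 fun s hs => ?_, huniv⟩
  obtain ⟨V, hV, hsV, -⟩ := exists_isAffineOpen_mem_and_subset (U := (⊤ : S.Opens)) (x := s) trivial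
  haveI : IsAffine V.toScheme := hV
  obtain ⟨W, e, -, -, -, hre, hflat, -⟩ := exists_local_flattening f L F Φ hL hF V.ι
  obtain ⟨h, hh⟩ := (huniv W (e ≫ V.ι)).2 ⟨hflat, by rintro _ ⟨y, rfl⟩; exact hre.le ⟨y, rfl⟩⟩
  obtain ⟨y, hy⟩ := hre.ge (show (⟨s, hsV⟩ : V.toScheme) ∈ V.ι ⁻¹' Z from hs)
  refine ⟨h y, ?_⟩
  rw [← Scheme.Hom.comp_apply, hh, Scheme.Hom.comp_apply, hy]
  rfl

end Groth.Agent.Lib.HilbFib53
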