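import Groth.Agent.Lib.HilbFib53.Local
import Groth.Agent.H47.FlatLimit

/-!
# The Hilbert functions of the fibres, and base change
-/

set_option autoImplicit false
set_option linter.style.haveILetI false
set_option linter.style.show false

universe u

open CategoryTheory CategoryTheory.Limits AlgebraicGeometry TopologicalSpace

namespace Groth.Agent.Lib.HilbFib53

open Groth.Agent.Lib Groth.Agent.Lib.TensorMod.Basic

variable {X S : Scheme.{u}}

/-- The Euler characteristics of the twists on a fibre. -/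
noncomputable def hilbFn (f : X ⟶ S) (L F : X.Modules) (s : S) (n : ℕ) : ℤ :=
  @Curv2.euler (S.residueField s) _ (f.fiber s) ⟨f.fiberToSpecResidueField s⟩
    ((Scheme.Modules.pullback (f.fiberι s)).obj (CohB1.tensorMod F (CohB1.tensorPow L n)))

variable (f : X ⟶ S) [IsProper f] {S' X' : Scheme.{u}} (b : S' ⟶ S) {a : X' ⟶ X} {f' : X' ⟶ S'}

/-- Hilbert functions of fibres do not change under base change. -/
theorem hilbFn_baseChange (sq : IsPullback a f' f b) (L F : X.Modules) [F.IsQuasicoherent]
    (hL : PicF.IsInvertible L) (s : S') (n : ℕ) :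
    hilbFn f' ((Scheme.Modules.pullback a).obj L) ((Scheme.Modules.pullback a).obj F) s n =
      hilbFn f L F (b s) n := by
  let K : Type u := S'.residueField s
  let k : Type u := S.residueField (b s)
  letI : Algebra k K := (b.residueFieldMap s).hom.toAlgebra
  letI : (f'.fiber s).Over (Spec (CommRingCat.of K)) := ⟨f'.fiberToSpecResidueField s⟩
  letI : (f.fiber (b s)).Over (Spec (CommRingCat.of k)) := ⟨f.fiberToSpecResidueField (b s)⟩
  let ρ : Spec (S'.residueField s) ⟶ Spec (S.residueField (b s)) := Spec.map (b.residueFieldMap s)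
  have hρ : ρ ≫ S.fromSpecResidueField (b s) = S'.fromSpecResidueField s ≫ b :=
    b.SpecMap_residueFieldMap_fromSpecResidueField s
  have h1 : IsPullback (f'.fiberι s ≫ a) (f'.fiberToSpecResidueField s) f
      (S'.fromSpecResidueField s ≫ b) := (IsPullback.of_hasPullback f' (S'.fromSpecResidueField s)).paste_horiz sq
  have h2 : IsPullback (f.fiberι (b s)) (f.fiberToSpecResidueField (b s)) f
      (S.fromSpecResidueField (b s)) := IsPullback.of_hasPullback f (S.fromSpecResidueField (b s))
  let g := h2.lift (f'.fiberι s ≫ a) (f'.fiberToSpecResidueField s ≫ ρ)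
    (by rw [Category.assoc, Category.assoc, hρ, ← Category.assoc, ← Category.assoc]
        exact h1.w)
  have hg1 : g ≫ f.fiberι (b s) = f'.fiberι s ≫ a := h2.lift_fst _ _ _
  have h : IsPullback g (f'.fiberToSpecResidueField s) (f.fiberToSpecResidueField (b s)) ρ := by
    refine IsPullback.of_right ?_ (h2.lift_snd _ _ _) h2
    rw [hg1, hρ]
    exact h1
  haveI : IsProper (f.fiberToSpecResidueField (b s)) := MorphismProperty.of_isPullback h2 inferInstance
  haveI : CompactSpace (f.fiber (b s)) :=
    QuasiCompact.compactSpace_of_compactSpace (f.fiberToSpecResidueField (b s))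
  haveI : QuasiSeparatedSpace (f.fiber (b s)) :=
    quasiSeparatedSpace_of_quasiSeparated (f.fiberToSpecResidueField (b s))
  haveI : (CohB1.tensorPow L n).IsQuasicoherent :=
    (Ample.GG.isCoh_of_isInvertible (TensorMod.Invertible.isInvertible_tensorPow hL n)).1
  haveI := TensorMod.TensorQCoh.isQCoh_tensorMod F (CohB1.tensorPow L n)
  let M := (Scheme.Modules.pullback (f.fiberι (b s))).obj (CohB1.tensorMod F (CohB1.tensorPow L n))
  haveI : M.IsQuasicoherent := QCoh.Pullback.isQCoh_pullback _ _
  let e : (Scheme.Modules.pullback g).obj M ≅ (Scheme.Modules.pullback (f'.fiberι s)).obj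
      (CohB1.tensorMod ((Scheme.Modules.pullback a).obj F) (CohB1.tensorPow ((Scheme.Modules.pullback a).obj L) n)) :=
    (Scheme.Modules.pullbackComp g (f.fiberι (b s))).app _ ≪≫ (Scheme.Modules.pullbackCongr hg1).app _ ≪≫
      ((Scheme.Modules.pullbackComp (f'.fiberι s) a).app _).symm ≪≫
      (Scheme.Modules.pullback (f'.fiberι s)).mapIso (TensorMod.Pullback.pullbackTensorIso a _ _ ≪≫
        tensorIso (Iso.refl _) (Ample.Pow.pullbackPow a L n))
  have h' : IsPullback g (f'.fiber s ↘ Spec (CommRingCat.of K)) (f.fiber (b s) ↘ Spec (CommRingCat.of k))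
      (Spec.map (CommRingCat.ofHom (algebraMap k K))) := h
  show Curv2.euler K (f'.fiber s) _ = Curv2.euler k (f.fiber (b s)) M
  rw [← Curves.Euler.euler_eq_of_iso e]
  unfold Curv2.euler
  simp only [Curves.BaseChange.finrank_HH h' M]

/-- Flatness after a further base change. -/
theorem flat_baseChange_iff (sq : IsPullback a f' f b) (F : X.Modules) {T : Scheme.{u}} (g : T ⟶ S') :
    FlatMod.IsFlatOver (pullback.snd f' g)
        ((Scheme.Modules.pullback (pullback.fst f' g)).obj ((Scheme.Modules.pullback a).obj F)) ↔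
      FlatMod.IsFlatOver (pullback.snd f (g ≫ b))
        ((Scheme.Modules.pullback (pullback.fst f (g ≫ b))).obj F) := by
  have h1 : IsPullback (pullback.fst f' g ≫ a) (pullback.snd f' g) f (g ≫ b) :=
    (IsPullback.of_hasPullback f' g).paste_horiz sq
  let ι := h1.isoPullback
  let N' := (Scheme.Modules.pullback (pullback.fst f (g ≫ b))).obj F
  let e : (Scheme.Modules.pullback ι.hom).obj N' ≅
      (Scheme.Modules.pullback (pullback.fst f' g)).obj ((Scheme.Modules.pullback a).obj F) :=
    (Scheme.Modules.pullbackComp ι.hom (pullback.fst f (g ≫ b))).app F ≪≫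
      (Scheme.Modules.pullbackCongr h1.isoPullback_hom_fst).app F ≪≫
      ((Scheme.Modules.pullbackComp (pullback.fst f' g) a).app F).symm
  have key : ∀ x, FlatMod.IsFlatOverAt (pullback.snd f' g)
      ((Scheme.Modules.pullback (pullback.fst f' g)).obj ((Scheme.Modules.pullback a).obj F)) x ↔
      FlatMod.IsFlatOverAt (pullback.snd f (g ≫ b)) N' (ι.hom x) := fun x => by
    rw [← Flat55.FlatOverAt.isFlatOverAt_pullback_iff ι.hom _ _ x (Flat.stalkMap _ _),
      h1.isoPullback_hom_snd]
    exact ⟨Flat55.FlatOverAt.of_iso _ e.symm x, Flat55.FlatOverAt.of_iso _ e x⟩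
  refine ⟨fun h y => ?_, fun h x => (key x).2 (h _)⟩
  obtain ⟨x, rfl⟩ := ι.hom.surjective y
  exact (key x).1 (h x)

variable [LocallyOfFinitePresentation f]

/-- The data over an affine open of the base. -/
theorem exists_local_open (L : X.Modules) (hL : RelAmple.IsRelAmple f L) (F : X.Modules)
    (hF : CohB1.IsFP F) [IsAffine S'] :
    ∃ N : ℕ, 0 < N ∧ ∀ j : ℕ, ∃ (r : ℕ) (S₀ : Scheme.{u}) (b₀ : S' ⟶ S₀)
      (G₀ : (CohB1.ProjSpaceOver r S₀).Modules), IsNoetherian S₀ ∧ Coh.IsCoh G₀ ∧
      (∀ (s : S') (q : ℕ), hilbFn f L F (b s) (j + N * q) = FlatStrat53.chiFib G₀ (b₀ s) (q : ℤ)) ∧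
      ∀ (T : Scheme.{u}) (g : T ⟶ S'),
        FlatMod.IsFlatOver (pullback.snd f (g ≫ b))
          ((Scheme.Modules.pullback (pullback.fst f (g ≫ b))).obj F) ↔
          FlatStrat53.FlatAlong G₀ (g ≫ b₀) := by
  haveI : F.IsQuasicoherent := by
    obtain ⟨σ, -⟩ := hF
    exact SheafOfModules.IsQuasicoherent.mk (C := X.Opens) (R := X.ringCatSheaf) (M := F) ⟨σ⟩
  have hLi : PicF.IsInvertible L := Ample.RelAmple.isInvertible_of_isRelAmple hL
  have sq := IsPullback.of_hasPullback f b
  obtain ⟨N, hN, h⟩ := exists_local (pullback.snd f b) ((Scheme.Modules.pullback (pullback.fst f b)).obj L)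
    (Ample.RelAmple.isRelAmple_baseChange f b hL) ((Scheme.Modules.pullback (pullback.fst f b)).obj F)
    (Groth.Agent.H47.FlatLimit.isFP_pullback _ F hF)
  refine ⟨N, hN, fun j => ?_⟩
  obtain ⟨r, S₀, b₀, G₀, hn, hG, he, hfl⟩ := h j
  refine ⟨r, S₀, b₀, G₀, hn, hG, fun s q => ?_, fun T g => ?_⟩
  · rw [← hilbFn_baseChange f b sq L F hLi s (j + N * q)]
    exact he s q
  · rw [← flat_baseChange_iff f b sq F g]
    exact hfl T g

end Groth.Agent.Lib.HilbFib53
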