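import Groth.Agent.Lib.HilbFib53.Restrict
import Groth.Agent.Lib.FlatStrat53.PolyAtlas

/-!
# The strata of the Hilbert polynomials, over an affine open of the base
-/

set_option autoImplicit false
set_option linter.style.haveILetI false
set_option linter.style.show false

universe u

open CategoryTheory CategoryTheory.Limits AlgebraicGeometry TopologicalSpace

namespace Groth.Agent.Lib.HilbFib53

open Groth.Agent.Lib

/-- A morphism from a reduced scheme lifts along an immersion containing its image. -/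
theorem exists_lift_of_isReduced {W S T : Scheme.{u}} (e : W ⟶ S) [IsImmersion e] [IsReduced T]
    (φ : T ⟶ S) (h : Set.range φ ⊆ Set.range e) : ∃ g : T ⟶ W, g ≫ e = φ := by
  have hr : Set.range (pullback.snd e φ) = Set.univ := by
    rw [Scheme.Pullback.range_snd]
    exact Set.eq_univ_of_forall fun t => h ⟨t, rfl⟩
  haveI : IsClosedImmersion (pullback.snd e φ) :=
    IsClosedImmersion.of_isPreimmersion _ (hr ▸ isClosed_univ)
  haveI : Surjective (pullback.snd e φ) := ⟨Set.range_eq_univ.1 hr⟩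
  haveI : IsIso (pullback.snd e φ) := isIso_of_isClosedImmersion_of_surjective _
  refine ⟨inv (pullback.snd e φ) ≫ pullback.fst e φ, ?_⟩
  rw [Category.assoc, pullback.condition, IsIso.inv_hom_id_assoc]

section FlatPB

variable {X S : Scheme.{u}} (f : X ⟶ S) (F : X.Modules)

/-- Flatness of the pullback along a morphism to the base. -/
def FlatPB {T : Scheme.{u}} (g : T ⟶ S) : Prop :=
  FlatMod.IsFlatOver (pullback.snd f g) ((Scheme.Modules.pullback (pullback.fst f g)).obj F)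

variable {f F}

theorem isPullback_step {T T' : Scheme.{u}} (g : T ⟶ S) (h : T' ⟶ T) :
    ∃ m : pullback f (h ≫ g) ⟶ pullback f g,
      IsPullback m (pullback.snd f (h ≫ g)) (pullback.snd f g) h ∧
        m ≫ pullback.fst f g = pullback.fst f (h ≫ g) := by
  refine ⟨pullback.lift (pullback.fst f (h ≫ g)) (pullback.snd f (h ≫ g) ≫ h)
    (by rw [Category.assoc, pullback.condition]), ?_, pullback.lift_fst _ _ _⟩
  refine IsPullback.of_right ?_ (pullback.lift_snd _ _ _) (IsPullback.of_hasPullback f g)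
  rw [pullback.lift_fst]
  exact IsPullback.of_hasPullback f (h ≫ g)

theorem FlatPB.comp {T T' : Scheme.{u}} {g : T ⟶ S} (hg : FlatPB f F g) (h : T' ⟶ T) :
    FlatPB f F (h ≫ g) := fun x => by
  obtain ⟨m, sq, hm⟩ := isPullback_step (f := f) g h
  exact Flat55.FlatOverAt.of_iso _ ((Scheme.Modules.pullbackComp m (pullback.fst f g)).app F ≪≫
    (Scheme.Modules.pullbackCongr hm).app F) x
    (Flat55.FlatOverAt.isFlatOverAt_baseChange _ _ _ _ sq _ x (hg _))

theorem flatPB_of_cover {T : Scheme.{u}} (g : T ⟶ S)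
    (h : ∀ t : T, ∃ (T' : Scheme.{u}) (k : T' ⟶ T) (_ : IsOpenImmersion k), t ∈ Set.range k ∧
      FlatPB f F (k ≫ g)) : FlatPB f F g := by
  intro x
  obtain ⟨T', k, hk, ⟨t', ht'⟩, hflat⟩ := h (pullback.snd f g x)
  obtain ⟨m, sq, hm⟩ := isPullback_step (f := f) g k
  obtain ⟨z, hz, -⟩ := Scheme.Pullback.exists_preimage_pullback (f := pullback.snd f g) (g := k) x t' ht'.symm
  have hx : m (sq.isoPullback.inv z) = x := by
    rw [← Scheme.Hom.comp_apply, sq.isoPullback_inv_fst, hz]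
  rw [← hx]
  refine Flat55.FlatOverAt.isFlatOverAt_of_baseChange _ _ _ _ sq _ _ (Flat.stalkMap k _) ?_
  exact Flat55.FlatOverAt.of_iso _ ((Scheme.Modules.pullbackCongr hm.symm).app F ≪≫
    ((Scheme.Modules.pullbackComp m (pullback.fst f g)).app F).symm) _ (hflat _)

theorem FlatPB.of_isFlatOver (hF : FlatMod.IsFlatOver f F) {T : Scheme.{u}} (g : T ⟶ S) :
    FlatPB f F g := fun x =>
  Flat55.FlatOverAt.isFlatOverAt_baseChange _ _ _ _ (IsPullback.of_hasPullback f g) _ x (hF _)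

theorem isFlatOver_of_cover
    (h : ∀ s : S, ∃ U : S.Opens, s ∈ U ∧ FlatPB f F U.ι) : FlatMod.IsFlatOver f F := fun x => by
  obtain ⟨U, hU, hflat⟩ := h (f x)
  obtain ⟨z, hz, -⟩ := Scheme.Pullback.exists_preimage_pullback (f := f) (g := U.ι) x ⟨f x, hU⟩ rfl
  rw [← hz]
  exact Flat55.FlatOverAt.isFlatOverAt_of_baseChange _ _ _ _ (IsPullback.of_hasPullback f U.ι) _ _
    (Flat.stalkMap U.ι _) (hflat z)

end FlatPB

/-- The strata of the Hilbert polynomials of a coherent sheaf on `P^r` over a Noetherian scheme. -/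
theorem exists_polyStrata {r : ℕ} {S₀ : Scheme.{u}} [IsNoetherian S₀]
    (G : (CohB1.ProjSpaceOver r S₀).Modules) (hG : Coh.IsCoh G) :
    ∃ P : S₀ → Polynomial ℚ, (∀ s (m : ℤ), (FlatStrat53.chiFib G s m : ℚ) = (P s).eval (m : ℚ)) ∧
      (Set.range P).Finite ∧
      (∀ Q : Polynomial ℚ, ∃ (W : Scheme.{u}) (e : W ⟶ S₀), IsImmersion e ∧ QuasiCompact e ∧
        LocallyOfFinitePresentation e ∧ Set.range e = {s | P s = Q} ∧ FlatStrat53.FlatAlong G e ∧
        ∀ (T : Scheme.{u}) (φ : T ⟶ S₀), Set.range φ ⊆ {s | P s = Q} → FlatStrat53.FlatAlong G φ →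
          ∃ g : T ⟶ W, g ≫ e = φ) ∧
      (∀ (Q : Polynomial ℚ) (s : S₀), s ∈ closure {s | P s = Q} →
        ∃ m₀ : ℕ, ∀ m : ℕ, m₀ ≤ m → Q.eval (m : ℚ) ≤ (P s).eval (m : ℚ)) ∧
      ∀ (T : Scheme.{u}) (φ : T ⟶ S₀), FlatStrat53.FlatAlong G φ → ∀ Q, IsOpen (φ ⁻¹' {s | P s = Q}) := by
  classical
  haveI : G.IsQuasicoherent := hG.1
  haveI : SheafOfModules.IsFiniteType (R := (CohB1.ProjSpaceOver r S₀).ringCatSheaf) G := hG.2
  obtain ⟨𝔄, P, hchi, hval⟩ := FlatStrat53.exists_polyAtlas G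
  have hPh : ∀ s s' : S₀, P s = P s' ↔ 𝔄.h s = 𝔄.h s' := fun s s' => by
    refine ⟨fun h => funext fun j => ?_, fun h => ?_⟩
    · have h1 := hval s j
      rw [h, hval s' j] at h1
      exact_mod_cast h1.symm
    · refine FlatStrat53.poly_eq_of_eventually ⟨𝔄.M, fun i hi => ?_⟩
      obtain ⟨j, rfl⟩ := Nat.exists_eq_add_of_le hi
      rw [hval, hval, h]
  have hZ : ∀ s' : S₀, {s | P s = P s'} = 𝔄.Z (𝔄.h s') := fun s' => Set.ext fun s => hPh s s'
  refine ⟨P, hchi, ?_, fun Q => ?_, fun Q s hs => ?_, fun T φ hφ Q => ?_⟩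
  · choose rep hrep using fun h : Set.range 𝔄.h => h.2
    haveI := 𝔄.finite_h.fintype
    refine (Set.finite_range fun h : Set.range 𝔄.h => P (rep h)).subset ?_
    rintro _ ⟨s, rfl⟩
    exact ⟨⟨𝔄.h s, s, rfl⟩, (hPh _ _).2 (hrep _)⟩
  · by_cases hQ : ∃ s', P s' = Q
    · obtain ⟨s', rfl⟩ := hQ
      obtain ⟨W, e, he, hr, hflat, hlift⟩ := FlatStrat53.Atlas.exists_stratum 𝔄 (h := 𝔄.h s') ⟨s', rfl⟩
      haveI : TopologicalSpace.NoetherianSpace W := e.isEmbedding.isInducing.noetherianSpace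
      refine ⟨W, e, he, inferInstance, inferInstance, hr.trans (hZ s').symm, hflat, fun T φ hφ hfl => ?_⟩
      exact hlift T φ (hφ.trans (hZ s').subset) hfl
    · let W : Scheme.{u} := ∅
      refine ⟨W, Scheme.emptyTo S₀, inferInstance, inferInstance, inferInstance, ?_, fun x => ?_, fun T φ hφ _ => ?_⟩
      · ext s
        exact ⟨fun ⟨y, _⟩ => isEmptyElim y, fun hs => (hQ ⟨s, hs⟩).elim⟩
      · exact isEmptyElim (CohB1.ProjSpaceOver.toBase r W x)
      · haveI : IsEmpty T := ⟨fun t => hQ ⟨φ t, hφ ⟨t, rfl⟩⟩⟩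
        exact ⟨isInitialOfIsEmpty.to _, isInitialOfIsEmpty.hom_ext _ _⟩
  · obtain ⟨s', hs'⟩ : ∃ s', P s' = Q := by
      by_contra hc
      rw [show {s | P s = Q} = ∅ from Set.eq_empty_of_forall_notMem fun s' h => hc ⟨s', h⟩, closure_empty] at hs
      exact hs
    subst hs'
    rw [hZ] at hs
    refine ⟨𝔄.M, fun m hm => ?_⟩
    obtain ⟨j, rfl⟩ := Nat.exists_eq_add_of_le hm
    rw [hval, hval]
    exact_mod_cast FlatStrat53.Atlas.le_of_mem_closure_Z 𝔄 hs j
  · by_cases hQ : ∃ s', P s' = Q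
    · obtain ⟨s', rfl⟩ := hQ
      rw [hZ]
      exact FlatStrat53.Atlas.isOpen_preimage_Z 𝔄 hφ ⟨s', rfl⟩
    · rw [show {s | P s = Q} = ∅ from Set.eq_empty_of_forall_notMem fun s' h => hQ ⟨s', h⟩]
      exact isOpen_empty

variable {X S S' : Scheme.{u}} (f : X ⟶ S) [IsProper f] [LocallyOfFinitePresentation f] (b : S' ⟶ S)
  (L F : X.Modules)

/-- The Hilbert polynomials along the residue classes, and their strata, over an affine scheme over
the base. -/
theorem exists_local_strata [IsAffine S'] (hL : RelAmple.IsRelAmple f L) (hF : CohB1.IsFP F) :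
    ∃ N : ℕ, 0 < N ∧ ∀ j : ℕ, ∃ P : S' → Polynomial ℚ,
      (∀ (s : S') (q : ℕ), (hilbFn f L F (b s) (j + N * q) : ℚ) = (P s).eval (q : ℚ)) ∧
      (Set.range P).Finite ∧
      (∀ Q : Polynomial ℚ, ∃ (W : Scheme.{u}) (e : W ⟶ S'), IsImmersion e ∧ QuasiCompact e ∧
        LocallyOfFinitePresentation e ∧ Set.range e = {s | P s = Q} ∧ FlatPB f F (e ≫ b) ∧
        ∀ (T : Scheme.{u}) (φ : T ⟶ S'), Set.range φ ⊆ {s | P s = Q} → FlatPB f F (φ ≫ b) →
          ∃ g : T ⟶ W, g ≫ e = φ) ∧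
      (∀ (Q : Polynomial ℚ) (s : S'), s ∈ closure {s | P s = Q} →
        ∃ m₀ : ℕ, ∀ m : ℕ, m₀ ≤ m → Q.eval (m : ℚ) ≤ (P s).eval (m : ℚ)) ∧
      ∀ (T : Scheme.{u}) (φ : T ⟶ S'), FlatPB f F (φ ≫ b) → ∀ Q, IsOpen (φ ⁻¹' {s | P s = Q}) := by
  obtain ⟨N, hN, h⟩ := exists_local_open f b L hL F hF
  refine ⟨N, hN, fun j => ?_⟩
  obtain ⟨r, S₀, b₀, G₀, hn, hG, hval, hfl⟩ := h j
  haveI := hn
  obtain ⟨P, hP, hfin, hstrata, hclosure, hopen⟩ := exists_polyStrata G₀ hG
  refine ⟨fun s => P (b₀ s), fun s q => ?_, hfin.subset (Set.range_comp_subset_range _ _), fun Q => ?_,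
    fun Q s hs => hclosure Q (b₀ s) (b₀.continuous.closure_preimage_subset _ hs), fun T φ hφ Q => ?_⟩
  · rw [hval, hP]
    push_cast
    rfl
  · obtain ⟨W, e, hi, hq, hp, hr, hflat, hlift⟩ := hstrata Q
    refine ⟨pullback b₀ e, pullback.fst b₀ e, inferInstance, (haveI := hq; inferInstance),
      (haveI := hp; inferInstance),
      by rw [Scheme.Pullback.range_fst, hr]; rfl, ?_, fun T φ hT hflT => ?_⟩
    · refine (hfl _ _).2 ?_
      rw [pullback.condition]
      exact hflat.comp _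
    · obtain ⟨g, hg⟩ := hlift T (φ ≫ b₀) (by rintro _ ⟨t, rfl⟩; exact hT ⟨t, rfl⟩) ((hfl T φ).1 hflT)
      exact ⟨pullback.lift φ g hg.symm, pullback.lift_fst _ _ _⟩
  · exact hopen T (φ ≫ b₀) ((hfl T φ).1 hφ) Q

end Groth.Agent.Lib.HilbFib53
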